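/-
Class numbers of a finite group and a subgroup of index two, and of a product with a central involution, by
counting commuting pairs.
-/
import Mathlib

set_option autoImplicit false

namespace Cfsg.Agent.Comm.IndexTwo

variable {G : Type*} [Group G] [Finite G]

/-- The classes contained in `H` together with their centralisers. -/
def SplitClass (H : Subgroup G) (C : ConjClasses G) : Prop :=
  ∀ g, ConjClasses.mk g = C → g ∈ H ∧ ∀ c, Commute c g → c ∈ H

omit [Finite G] in
theorem splitClass_mk (H : Subgroup G) [H.Normal] (g : G) :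
    SplitClass H (ConjClasses.mk g) ↔ g ∈ H ∧ ∀ c, Commute c g → c ∈ H := by
  refine ⟨fun h => h g rfl, fun h g' hg' => ?_⟩
  obtain ⟨x, hx⟩ := isConj_iff.1 (ConjClasses.mk_eq_mk_iff_isConj.1 hg'.symm)
  subst hx
  refine ⟨(inferInstance : H.Normal).conj_mem _ h.1 x, fun c hc => ?_⟩
  have h1 := h.2 (x⁻¹ * c * x) (by
    show x⁻¹ * c * x * g = g * (x⁻¹ * c * x)
    calc x⁻¹ * c * x * g = x⁻¹ * (c * (x * g * x⁻¹)) * x := by group
      _ = x⁻¹ * ((x * g * x⁻¹) * c) * x := by rw [hc.eq]
      _ = g * (x⁻¹ * c * x) := by group)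
  have h2 := (inferInstance : H.Normal).conj_mem _ h1 x
  rwa [show x * (x⁻¹ * c * x) * x⁻¹ = c by group] at h2

/-- The pairs whose first member lies in a set of classes. -/
theorem card_pairs_classes (P : ConjClasses G → Prop) :
    Nat.card {p : G × G // Commute p.1 p.2 ∧ P (ConjClasses.mk p.1)} = Nat.card {C // P C} * Nat.card G := by
  classical
  have := Fintype.ofFinite G
  let e : {p : G × G // Commute p.1 p.2 ∧ P (ConjClasses.mk p.1)} ≃
      Σ C : {C // P C}, Σ x : C.1.carrier, {y : G // Commute (x : G) y} :=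
    { toFun := fun p => ⟨⟨_, p.2.2⟩, ⟨p.1.1, ConjClasses.mem_carrier_mk⟩, ⟨p.1.2, p.2.1⟩⟩
      invFun := fun z => ⟨(z.2.1.1, z.2.2.1), z.2.2.2, by
        rw [ConjClasses.mem_carrier_iff_mk_eq.1 z.2.1.2]; exact z.1.2⟩
      left_inv := fun p => rfl
      right_inv := fun z => by
        obtain ⟨⟨C, hC⟩, ⟨x, hx⟩, ⟨y, hy⟩⟩ := z
        obtain rfl : ConjClasses.mk x = C := ConjClasses.mem_carrier_iff_mk_eq.1 hx
        rfl }
  rw [Nat.card_congr e, Nat.card_sigma]
  have key : ∀ C : ConjClasses G, Nat.card (Σ x : C.carrier, {y : G // Commute (x : G) y}) = Nat.card G := by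
    intro C
    obtain ⟨g, rfl⟩ := ConjClasses.exists_rep C
    have hc : ∀ x : (ConjClasses.mk g).carrier,
        Nat.card {y : G // Commute (x : G) y} = Nat.card {y : G // Commute g y} := by
      intro x
      obtain ⟨c, hcx⟩ := isConj_iff.1
        (ConjClasses.mk_eq_mk_iff_isConj.1 (ConjClasses.mem_carrier_iff_mk_eq.1 x.2)).symm
      refine (Nat.card_congr ((MulAut.conj c).toEquiv.subtypeEquiv fun y => ?_)).symm
      rw [← hcx]
      exact (commute_map_iff (MulAut.conj c).injective).symm
    rw [Nat.card_sigma, Finset.sum_congr rfl fun x _ => hc x, Finset.sum_const, Finset.card_univ, smul_eq_mul,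
      ConjClasses.card_carrier]
    have hstab : Nat.card {y : G // Commute g y} = Nat.card (MulAction.stabilizer (ConjAct G) g) := by
      rw [← Subgroup.nat_card_centralizer_nat_card_stabilizer]
      exact Nat.card_congr (Equiv.subtypeEquivRight fun y =>
        (Subgroup.mem_centralizer_singleton_iff.trans ⟨fun h => h.symm, fun h => h.symm⟩).symm)
    rw [hstab, Nat.card_eq_fintype_card, Nat.card_eq_fintype_card]
    exact Nat.div_mul_cancel (ConjAct.card (G := G) ▸ Nat.card_eq_fintype_card (α := ConjAct G) ▸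
      Nat.card_eq_fintype_card (α := MulAction.stabilizer (ConjAct G) g) ▸ Subgroup.card_subgroup_dvd_card _)
  rw [Finset.sum_congr rfl fun C _ => key C.1, Finset.sum_const, Finset.card_univ, smul_eq_mul,
    Nat.card_eq_fintype_card (α := {C // P C})]

/-- Twice the class number of a subgroup of index two. -/
theorem two_mul_card_classes (H : Subgroup G) (hH : H.index = 2) :
    2 * Nat.card (ConjClasses H) = Nat.card (ConjClasses G) + 3 * Nat.card {C // SplitClass H C} := by
  classical
  have := Fintype.ofFinite G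
  haveI := Subgroup.normal_of_index_eq_two hH
  have hmul : ∀ {a b : G}, a * b ∈ H ↔ (a ∈ H ↔ b ∈ H) := fun {a b} => Subgroup.mul_mem_iff_of_index_two hH
  let cnt : (G × G → Prop) → ℕ := fun P => Nat.card {p : G × G // Commute p.1 p.2 ∧ P p}
  have hcnt : ∀ P : G × G → Prop, Nat.card {p : G × G // Commute p.1 p.2 ∧ P p} = cnt P := fun P => rfl
  have hiff : ∀ P P' : G × G → Prop, (∀ p, P p ↔ P' p) → cnt P = cnt P' := fun P P' h =>
    Nat.card_congr (Equiv.subtypeEquivRight fun p => and_congr_right fun _ => h p)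
  have hadd : ∀ P Q : G × G → Prop, cnt P = (cnt fun p => P p ∧ Q p) + cnt fun p => P p ∧ ¬Q p := fun P Q => by
    rw [← Nat.card_sum]
    refine Nat.card_congr ((Equiv.sumCompl fun p : {p : G × G // Commute p.1 p.2 ∧ P p} => Q p.1).symm.trans
      (Equiv.sumCongr ?_ ?_)) <;>
    exact
      { toFun := fun p => ⟨p.1.1, p.1.2.1, p.1.2.2, p.2⟩
        invFun := fun p => ⟨⟨p.1, p.2.1, p.2.2.1⟩, p.2.2.2⟩
        left_inv := fun p => rfl
        right_inv := fun p => rfl }
  set A := cnt fun p => p.1 ∈ H ∧ p.2 ∈ H with hA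
  have hG : Nat.card (ConjClasses G) * Nat.card G = cnt fun _ => True := by
    rw [← card_comm_eq_card_conjClasses_mul_card, ← hcnt]
    exact Nat.card_congr (Equiv.subtypeEquivRight fun p => (and_iff_left trivial).symm)
  have hHc : Nat.card (ConjClasses H) * Nat.card H = A := by
    rw [← card_comm_eq_card_conjClasses_mul_card, hA, ← hcnt]
    exact Nat.card_congr
      { toFun := fun p => ⟨(p.1.1.1, p.1.2.1), congrArg Subtype.val p.2, p.1.1.2, p.1.2.2⟩
        invFun := fun p => ⟨(⟨p.1.1, p.2.2.1⟩, ⟨p.1.2, p.2.2.2⟩), Subtype.ext p.2.1⟩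
        left_inv := fun p => rfl
        right_inv := fun p => rfl }
  set B := cnt fun p => p.1 ∈ H ∧ p.2 ∉ H with hB
  have hswap : (cnt fun p => p.1 ∉ H ∧ p.2 ∈ H) = B :=
    Nat.card_congr
      { toFun := fun p => ⟨p.1.swap, p.2.1.symm, p.2.2.2, p.2.2.1⟩
        invFun := fun p => ⟨p.1.swap, p.2.1.symm, p.2.2.2, p.2.2.1⟩
        left_inv := fun p => rfl
        right_inv := fun p => rfl }
  have hdd : (cnt fun p => p.1 ∉ H ∧ p.2 ∉ H) = B := by
    rw [← hswap]
    exact Nat.card_congr
      { toFun := fun p => ⟨(p.1.1, p.1.1 * p.1.2), (Commute.refl _).mul_right p.2.1, p.2.2.1,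
          hmul.2 (iff_of_false p.2.2.1 p.2.2.2)⟩
        invFun := fun p => ⟨(p.1.1, p.1.1⁻¹ * p.1.2), (Commute.refl p.1.1).inv_right.mul_right p.2.1, p.2.2.1,
          fun h => p.2.2.1 (inv_mem_iff.1 ((hmul.1 h).2 p.2.2.2))⟩
        left_inv := fun p => Subtype.ext (Prod.ext rfl (inv_mul_cancel_left _ _))
        right_inv := fun p => Subtype.ext (Prod.ext rfl (mul_inv_cancel_left _ _)) }
  have htotal : (cnt fun _ => True) = A + B + B + B := by
    rw [hadd (fun _ => True) (fun p => p.1 ∈ H), hadd (fun p => True ∧ p.1 ∈ H) (fun p => p.2 ∈ H),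
      hadd (fun p => True ∧ ¬p.1 ∈ H) (fun p => p.2 ∈ H)]
    simp only [true_and]
    rw [hswap, hdd, ← hA, ← hB]
    ring
  set K := cnt fun p => p.1 ∈ H ∧ ∀ c, Commute c p.1 → c ∈ H with hK
  have hsplit : K = Nat.card {C // SplitClass H C} * Nat.card G := by
    rw [← card_pairs_classes, hK]
    exact hiff _ _ fun p => (splitClass_mk H p.1).symm
  have hAB : A = B + K := by
    -- the pairs with first member outside the split classes are as many on both sides
    have hX : ∀ x : G, x ∈ H → ¬(∀ c, Commute c x → c ∈ H) →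
        Nat.card {y : G // Commute x y ∧ y ∈ H} = Nat.card {y : G // Commute x y ∧ y ∉ H} := by
      intro x _ hx
      simp only [not_forall] at hx
      obtain ⟨c, hc, hcH⟩ := hx
      refine Nat.card_congr
        { toFun := fun y => ⟨c * y.1, hc.symm.mul_right y.2.1, fun h => hcH ((hmul.1 h).2 y.2.2)⟩
          invFun := fun y => ⟨c⁻¹ * y.1, hc.symm.inv_right.mul_right y.2.1,
            hmul.2 (iff_of_false (fun h => hcH (inv_mem_iff.1 h)) y.2.2)⟩
          left_inv := fun y => Subtype.ext (inv_mul_cancel_left _ _)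
          right_inv := fun y => Subtype.ext (mul_inv_cancel_left _ _) }
    have fib : ∀ P : G × G → Prop, cnt P = ∑ x : G, Nat.card {y : G // Commute x y ∧ P (x, y)} := fun P => by
      rw [← hcnt, Nat.card_congr (Equiv.subtypeProdEquivSigmaSubtype fun a b => Commute a b ∧ P (a, b)),
        Nat.card_sigma]
    rw [hA, hB, hK, fib, fib, fib, ← Finset.sum_add_distrib]
    refine Finset.sum_congr rfl fun x _ => ?_
    by_cases hxH : x ∈ H
    · by_cases hall : ∀ c, Commute c x → c ∈ H
      · haveI : IsEmpty {y : G // Commute x y ∧ (x, y).1 ∈ H ∧ (x, y).2 ∉ H} :=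
          ⟨fun y => y.2.2.2 (hall y.1 y.2.1.symm)⟩
        rw [Nat.card_of_isEmpty (α := {y : G // Commute x y ∧ (x, y).1 ∈ H ∧ (x, y).2 ∉ H}), zero_add]
        exact Nat.card_congr (Equiv.subtypeEquivRight fun y =>
          ⟨fun h => ⟨h.1, hxH, hall⟩, fun h => ⟨h.1, hxH, hall y h.1.symm⟩⟩)
      · haveI : IsEmpty {y : G // Commute x y ∧ (x, y).1 ∈ H ∧ ∀ c, Commute c (x, y).1 → c ∈ H} :=
          ⟨fun y => hall y.2.2.2⟩
        rw [Nat.card_of_isEmpty (α := {y : G // Commute x y ∧ (x, y).1 ∈ H ∧ ∀ c, Commute c (x, y).1 → c ∈ H}),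
          add_zero]
        refine Eq.trans ?_ ((hX x hxH hall).trans ?_) <;>
        · refine Nat.card_congr (Equiv.subtypeEquivRight fun y => ?_)
          simp [hxH]
    · simp [hxH]
  have hHG : Nat.card H * 2 = Nat.card G := by rw [← hH]; exact H.card_mul_index
  have h1 : Nat.card (ConjClasses H) * Nat.card G = 2 * A := by rw [← hHG, ← mul_assoc, hHc, mul_comm]
  refine Nat.eq_of_mul_eq_mul_right (Nat.card_pos (α := G)) ?_
  rw [add_mul, mul_assoc, mul_assoc, ← hsplit, h1, hG, htotal, hAB]
  ring

variable (K : Subgroup G) (z : G)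

/-- The union of `K` and its translate by a central involution. -/
def adjoin (hz : z ∈ Subgroup.center G) (hz2 : z * z = 1) : Subgroup G where
  carrier := {g | g ∈ K ∨ z * g ∈ K}
  one_mem' := Or.inl K.one_mem
  mul_mem' {a b} ha hb := by
    have hzc : ∀ x, x * z = z * x := Subgroup.mem_center_iff.1 hz
    rcases ha with ha | ha <;> rcases hb with hb | hb
    · exact Or.inl (mul_mem ha hb)
    · refine Or.inr ?_
      rw [← mul_assoc, ← hzc a, mul_assoc]; exact mul_mem ha hb
    · refine Or.inr ?_
      rw [← mul_assoc]; exact mul_mem ha hb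
    · refine Or.inl ?_
      have h : z * a * (z * b) = a * b := by
        calc z * a * (z * b) = z * (a * z) * b := by group
          _ = z * z * a * b := by rw [hzc a]; group
          _ = a * b := by rw [hz2, one_mul]
      rw [← h]; exact mul_mem ha hb
  inv_mem' {a} ha := by
    have hzc : ∀ x, x * z = z * x := Subgroup.mem_center_iff.1 hz
    rcases ha with ha | ha
    · exact Or.inl (inv_mem ha)
    · refine Or.inr ?_
      have h : z * a⁻¹ = (z * a)⁻¹ := by
        rw [mul_inv_rev, inv_eq_of_mul_eq_one_right hz2, hzc]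
      rw [h]; exact inv_mem ha

omit [Finite G] in
theorem mem_adjoin {hz : z ∈ Subgroup.center G} {hz2 : z * z = 1} {g : G} :
    g ∈ adjoin K z hz hz2 ↔ g ∈ K ∨ z * g ∈ K := Iff.rfl

variable (hz : z ∈ Subgroup.center G) (hz2 : z * z = 1) (hzK : z ∉ K)

include hzK in
theorem card_adjoin : Nat.card (adjoin K z hz hz2) = 2 * Nat.card K := by
  classical
  have hzc : ∀ x, x * z = z * x := Subgroup.mem_center_iff.1 hz
  let f : K ⊕ K → adjoin K z hz hz2 := fun x => match x with
    | .inl a => ⟨a, Or.inl a.2⟩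
    | .inr a => ⟨z * a, Or.inr (by rw [← mul_assoc, hz2, one_mul]; exact a.2)⟩
  have hne : ∀ a b : K, (a : G) ≠ z * b := fun a b h => hzK (by
    rw [show z = (a : G) * (b : G)⁻¹ by rw [h, mul_inv_cancel_right]]; exact mul_mem a.2 (inv_mem b.2))
  have hf : Function.Bijective f := by
    constructor
    · rintro (a | a) (b | b) h
      · exact congrArg Sum.inl (Subtype.ext (congrArg (fun x : adjoin K z hz hz2 => (x : G)) h))
      · exact (hne a b (congrArg (fun x : adjoin K z hz hz2 => (x : G)) h)).elim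
      · exact (hne b a (congrArg (fun x : adjoin K z hz hz2 => (x : G)) h).symm).elim
      · exact congrArg Sum.inr (Subtype.ext (mul_left_cancel (congrArg (fun x : adjoin K z hz hz2 => (x : G)) h)))
    · rintro ⟨g, hg | hg⟩
      · exact ⟨.inl ⟨g, hg⟩, rfl⟩
      · exact ⟨.inr ⟨z * g, hg⟩, Subtype.ext (show z * (z * g) = g by rw [← mul_assoc, hz2, one_mul])⟩
  rw [← Nat.card_eq_of_bijective f hf, Nat.card_sum, two_mul]

include hzK in
theorem card_classes_adjoin :
    Nat.card (ConjClasses (adjoin K z hz hz2)) = 2 * Nat.card (ConjClasses K) := by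
  classical
  have hzc : ∀ x : G, Commute x z := Subgroup.mem_center_iff.1 hz
  have key : Nat.card {p : adjoin K z hz hz2 × adjoin K z hz hz2 // Commute p.1 p.2} =
      4 * Nat.card {p : K × K // Commute p.1 p.2} := by
    let sh : Bool → K → adjoin K z hz hz2 := fun b a => if b then ⟨z * a, Or.inr (by
      rw [← mul_assoc, hz2, one_mul]; exact a.2)⟩ else ⟨a, Or.inl a.2⟩
    have hsh : ∀ b a, ((sh b a : adjoin K z hz hz2) : G) = (if b then z else 1) * (a : G) := fun b a => by
      cases b <;> simp [sh]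
    have hne : ∀ a b : K, (a : G) ≠ z * b := fun a b h => hzK (by
      rw [show z = (a : G) * (b : G)⁻¹ by rw [h, mul_inv_cancel_right]]; exact mul_mem a.2 (inv_mem b.2))
    have hinj : ∀ b b' a a', sh b a = sh b' a' → b = b' ∧ a = a' := fun b b' a a' h => by
      have h' := congrArg (fun x : adjoin K z hz hz2 => (x : G)) h
      simp only [hsh] at h'
      cases b <;> cases b' <;> simp only [if_true, Bool.false_eq_true, if_false, one_mul] at h'
      · exact ⟨rfl, Subtype.ext h'⟩
      · exact (hne _ _ h').elim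
      · exact (hne _ _ h'.symm).elim
      · exact ⟨rfl, Subtype.ext (mul_left_cancel h')⟩
    have hcomm : ∀ b b' a a', Commute (sh b a) (sh b' a') ↔ Commute a a' := fun b b' a a' => by
      have hz' : ∀ b : Bool, ∀ x : G, Commute x (if b then z else 1) := fun b x => by
        cases b <;> simp [hzc x]
      constructor
      · intro h
        refine Subtype.ext ?_
        have h' : Commute ((if b then z else 1) * (a : G)) ((if b' then z else 1) * (a' : G)) := by
          have := congrArg (fun x : adjoin K z hz hz2 => (x : G)) h.eq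
          simp only [Subgroup.coe_mul, hsh] at this
          exact this
        have h1 : Commute (a : G) ((if b' then z else 1) * (a' : G)) := by
          have := (Commute.inv_left (hz' b ((if b' then z else 1) * (a' : G))).symm).mul_left h'
          rwa [inv_mul_cancel_left] at this
        have h2 : Commute (a : G) (a' : G) := by
          have := (Commute.inv_right (hz' b' (a : G))).mul_right h1
          rwa [inv_mul_cancel_left] at this
        exact h2.eq
      · intro h
        refine Subtype.ext ?_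
        simp only [Subgroup.coe_mul, hsh]
        exact ((hz' b _).symm.mul_left ((hz' b' _).mul_right
          (congrArg (fun x : K => (x : G)) h.eq : (a : G) * a' = a' * a))).eq
    let f : (Bool × Bool) × {p : K × K // Commute p.1 p.2} →
        {p : adjoin K z hz hz2 × adjoin K z hz hz2 // Commute p.1 p.2} := fun x =>
      ⟨(sh x.1.1 x.2.1.1, sh x.1.2 x.2.1.2), (hcomm _ _ _ _).2 x.2.2⟩
    have hf : Function.Bijective f := by
      constructor
      · intro x y h
        have h' := congrArg Subtype.val h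
        obtain ⟨e1, e2⟩ := hinj _ _ _ _ (congrArg Prod.fst h')
        obtain ⟨e3, e4⟩ := hinj _ _ _ _ (congrArg Prod.snd h')
        exact Prod.ext (Prod.ext e1 e3) (Subtype.ext (Prod.ext e2 e4))
      · have hsurj : ∀ x : adjoin K z hz hz2, ∃ b a, sh b a = x := fun x => by
          rcases x.2 with h | h
          · exact ⟨false, ⟨x.1, h⟩, rfl⟩
          · exact ⟨true, ⟨z * x.1, h⟩, Subtype.ext (show z * (z * x.1) = x.1 by rw [← mul_assoc, hz2, one_mul])⟩
        rintro ⟨⟨p, q⟩, hpq⟩
        obtain ⟨b, a, rfl⟩ := hsurj p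
        obtain ⟨b', a', rfl⟩ := hsurj q
        exact ⟨((b, b'), ⟨(a, a'), (hcomm _ _ _ _).1 hpq⟩), rfl⟩
    rw [← Nat.card_eq_of_bijective f hf, Nat.card_prod]
    simp
  rw [card_comm_eq_card_conjClasses_mul_card, card_comm_eq_card_conjClasses_mul_card,
    card_adjoin K z hz hz2 hzK] at key
  refine Nat.eq_of_mul_eq_mul_right (Nat.mul_pos two_pos (Nat.card_pos (α := K))) ?_
  rw [key]
  ring

end Cfsg.Agent.Comm.IndexTwo
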